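import Cfsg.Agent.Lib.Helper26.ChevNsl2
import Cfsg.Agent.Lib.Helper8.ChevHi6

set_option autoImplicit false

/-! Weakly closed subgroups of `U` (S2244), part 1: words, ordered products and torus elements
inside the group. -/

namespace Cfsg.Agent.Lib.Helper26.WC

open Cfsg Cfsg.Lie Matrix Cfsg.Agent.Lib.Helper8.Chev Cfsg.Agent.Lib.Helper26.ChevNsl

section

variable {D : ChevalleyDatum} {F : Type*} [Field F]

theorem wEl_append (hD : D ∈ [chevG2, chevB2, chevD4, chevF4, chevE6, chevE7, chevE8])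
    (w w' : List (ℕ × F)) : wEl hD (w ++ w') = wEl hD w * wEl hD w' := by
  unfold wEl
  rw [List.map_append, List.prod_append]

theorem wEl_singleton (hD : D ∈ [chevG2, chevB2, chevD4, chevF4, chevE6, chevE7, chevE8])
    (r : ℕ) (t : F) : wEl hD [(r, t)] = xEl hD r t := by
  rw [wEl_cons, wEl_nil, mul_one]

theorem xEl_inv' (hD : D ∈ [chevG2, chevB2, chevD4, chevF4, chevE6, chevE7, chevE8])
    (r : ℕ) (t : F) : (xEl hD r t : ↥(D.group F))⁻¹ = xEl hD r (-t) := by
  by_cases hr : r < D.nroots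
  · exact xEl_inv hD hr t
  · unfold xEl
    rw [dif_neg hr, dif_neg hr, inv_one]

theorem xEl_add' (hD : D ∈ [chevG2, chevB2, chevD4, chevF4, chevE6, chevE7, chevE8])
    (r : ℕ) (t u : F) : (xEl hD r (t + u) : ↥(D.group F)) = xEl hD r t * xEl hD r u := by
  by_cases hr : r < D.nroots
  · exact xEl_add hD hr t u
  · unfold xEl
    rw [dif_neg hr, dif_neg hr, dif_neg hr, mul_one]

/-- the inverse of a word -/
theorem wEl_inv (hD : D ∈ [chevG2, chevB2, chevD4, chevF4, chevE6, chevE7, chevE8])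
    (w : List (ℕ × F)) :
    (wEl hD w)⁻¹ = wEl hD (w.reverse.map fun p => (p.1, -p.2)) := by
  induction w with
  | nil => simp [wEl_nil]
  | cons p w ih =>
    rw [wEl_cons, _root_.mul_inv_rev, ih, List.reverse_cons, List.map_append, wEl_append, xEl_inv']
    congr 1
    rw [List.map_cons, List.map_nil, wEl_singleton]

/-- the ordered product `∏_{k ≤ r < n} x_r(t_r)` in the group -/
noncomputable def segEl (hD : D ∈ [chevG2, chevB2, chevD4, chevF4, chevE6, chevE7, chevE8])
    (k : ℕ) (t : ℕ → F) : ↥(D.group F) := wEl hD (segW D k t)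

theorem segEl_succ (hD : D ∈ [chevG2, chevB2, chevD4, chevF4, chevE6, chevE7, chevE8])
    {k : ℕ} (hk : k < D.nroots) (t : ℕ → F) :
    segEl hD k t = xEl hD k (t k) * segEl hD (k + 1) t := by
  unfold segEl
  rw [segW_succ hk, wEl_cons]

theorem segEl_top (hD : D ∈ [chevG2, chevB2, chevD4, chevF4, chevE6, chevE7, chevE8])
    (t : ℕ → F) : segEl hD D.nroots t = 1 := by
  unfold segEl
  rw [segW_top, wEl_nil]

theorem segEl_congr (hD : D ∈ [chevG2, chevB2, chevD4, chevF4, chevE6, chevE7, chevE8])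
    {k : ℕ} {t t' : ℕ → F} (h : ∀ r, k ≤ r → r < D.nroots → t r = t' r) :
    segEl hD k t = segEl hD k t' := by
  unfold segEl
  rw [segW_congr h]

/-- collecting a word in front of an ordered product -/
theorem collectG (hD : D ∈ [chevG2, chevB2, chevD4, chevF4, chevE6, chevE7, chevE8])
    {k : ℕ} (hk : D.nroots / 2 ≤ k) (hkn : k ≤ D.nroots) (w : List (ℕ × F))
    (hw : ∀ p ∈ w, k ≤ p.1 ∧ p.1 < D.nroots) (t : ℕ → F) :
    ∃ t' : ℕ → F, wEl hD w * segEl hD k t = segEl hD k t' := by
  obtain ⟨t', ht'⟩ := collect (F := F) hD (D.nroots - k) k hk (by omega) w hw t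
  refine ⟨t', ?_⟩
  apply Subtype.ext
  apply Units.ext
  unfold segEl
  rw [Subgroup.coe_mul, Units.val_mul, coe_wEl, coe_wEl, coe_wEl, ht']

/-- a word is an ordered product -/
theorem word_eq_seg (hD : D ∈ [chevG2, chevB2, chevD4, chevF4, chevE6, chevE7, chevE8])
    {k : ℕ} (hk : D.nroots / 2 ≤ k) (hkn : k ≤ D.nroots) (w : List (ℕ × F))
    (hw : ∀ p ∈ w, k ≤ p.1 ∧ p.1 < D.nroots) :
    ∃ t' : ℕ → F, wEl hD w = segEl hD k t' := by
  have V := valid0_of_mem hD
  obtain ⟨t', ht'⟩ := collectG hD hk hkn w hw (fun _ => 0)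
  refine ⟨t', ?_⟩
  rw [← ht']
  have : segEl hD k (fun _ => (0 : F)) = 1 := by
    apply Subtype.ext
    apply Units.ext
    unfold segEl
    rw [coe_wEl, wN_segW_zero V]
    rfl
  rw [this, mul_one]

/-- uniqueness of the coordinates of an ordered product -/
theorem seg_inj (hD : D ∈ [chevG2, chevB2, chevD4, chevF4, chevE6, chevE7, chevE8])
    {k : ℕ} (hk : D.nroots / 2 ≤ k) (hkn : k ≤ D.nroots) {t t' : ℕ → F}
    (h : segEl hD k t = segEl hD k t') {r : ℕ} (h1 : k ≤ r) (h2 : r < D.nroots) : t r = t' r := by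
  have V := valid0_of_mem hD
  have V1 := valid1_of_mem hD
  have Tr := triP_of_mem hD
  have S := sepP_of_mem hD
  have C := copP_of_mem hD
  have h' := congrArg (fun g : ↥(D.group F) => ((g : GL D.Idx F) : Matrix D.Idx D.Idx F)) h
  unfold segEl at h'
  simp only [coe_wEl] at h'
  exact seg_unique V V1 Tr S C (D.nroots - k) k hk (by omega) t t' h' r h1 h2

/-- a segment from `k` with vanishing coordinates below `s` is a segment from `s` -/
theorem segEl_of_zero (hD : D ∈ [chevG2, chevB2, chevD4, chevF4, chevE6, chevE7, chevE8])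
    (t : ℕ → F) : ∀ (d k s : ℕ), k + d = s → s ≤ D.nroots → (∀ r, k ≤ r → r < s → t r = 0) →
      segEl hD k t = segEl hD s t := by
  intro d
  induction d with
  | zero =>
    intro k s hks _ _
    have : k = s := by omega
    rw [this]
  | succ d ih =>
    intro k s hks hs h0
    rw [segEl_succ hD (by omega), h0 k (le_refl _) (by omega), xEl_zero, one_mul]
    exact ih (k + 1) s (by omega) hs (fun r h1 h2 => h0 r (by omega) h2)

/-! ### Torus elements -/

/-- the torus element `h_p(c)` in the group -/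
noncomputable def hEl (hD : D ∈ [chevG2, chevB2, chevD4, chevF4, chevE6, chevE7, chevE8])
    (p : ℕ) (c : F) : ↥(D.group F) := wEl hD (D.hWord p c)

theorem coe_hEl (hD : D ∈ [chevG2, chevB2, chevD4, chevF4, chevE6, chevE7, chevE8])
    (p : ℕ) (c : F) :
    (((hEl hD p c : ↥(D.group F)) : GL D.Idx F) : Matrix D.Idx D.Idx F) = D.hMat F p c := by
  unfold hEl ChevalleyDatum.hMat
  rw [coe_wEl, wordMat_eq_wN]

theorem hEl_mem_diagonal (hD : D ∈ [chevG2, chevB2, chevD4, chevF4, chevE6, chevE7, chevE8])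
    {p : ℕ} (hp : p < D.nroots) {c : F} (hc : c ≠ 0) :
    ((hEl hD p c : ↥(D.group F)) : GL D.Idx F) ∈ D.diagonalSubgroup F :=
  Subgroup.subset_closure ⟨p, c, hp, hc, coe_hEl hD p c⟩

/-- conjugation of a root element by a torus element -/
theorem hEl_mul_xEl (hD : D ∈ [chevG2, chevB2, chevD4, chevF4, chevE6, chevE7, chevE8])
    {p s : ℕ} (hp : p < D.nroots) (hs : s < D.nroots) {c : F} (hc : c ≠ 0) (u : F) :
    hEl hD p c * xEl hD s u = xEl hD s (c ^ aco D p s * u) * hEl hD p c := by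
  apply Subtype.ext
  apply Units.ext
  rw [Subgroup.coe_mul, Subgroup.coe_mul, Units.val_mul, Units.val_mul, coe_hEl, coe_xEl',
    coe_xEl']
  exact hMat_conj_x hD hp hs hc u

/-- conjugation of a word by a torus element -/
theorem hEl_mul_wEl (hD : D ∈ [chevG2, chevB2, chevD4, chevF4, chevE6, chevE7, chevE8])
    {p : ℕ} (hp : p < D.nroots) {c : F} (hc : c ≠ 0) (w : List (ℕ × F))
    (hw : ∀ q ∈ w, q.1 < D.nroots) :
    hEl hD p c * wEl hD w =
      wEl hD (w.map fun q => (q.1, c ^ aco D p q.1 * q.2)) * hEl hD p c := by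
  induction w with
  | nil => simp [wEl_nil]
  | cons q w ih =>
    rw [wEl_cons, ← mul_assoc, hEl_mul_xEl hD hp (hw q List.mem_cons_self) hc, mul_assoc,
      ih (fun q' hq' => hw q' (List.mem_cons_of_mem _ hq')), List.map_cons, wEl_cons, mul_assoc]

/-- conjugation of an ordered product by a torus element -/
theorem hEl_mul_segEl (hD : D ∈ [chevG2, chevB2, chevD4, chevF4, chevE6, chevE7, chevE8])
    {p : ℕ} (hp : p < D.nroots) {c : F} (hc : c ≠ 0) (k : ℕ) (t : ℕ → F) :
    hEl hD p c * segEl hD k t =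
      segEl hD k (fun r => c ^ aco D p r * t r) * hEl hD p c := by
  unfold segEl
  rw [hEl_mul_wEl hD hp hc _ (fun q hq => (segW_mem hq).2)]
  congr 2
  unfold segW
  rw [List.map_map]
  rfl

end

end Cfsg.Agent.Lib.Helper26.WC
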