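import Cfsg.Agent.Lib.Helper26.WC.WC1
import Cfsg.Agent.Lib.Helper8.ChevSL2a

set_option autoImplicit false

/-! Weakly closed subgroups of `U` (S2244), part 2: subgroups of `U` normalised by `U` and `H`
are products of root subgroups (given the separation steps). -/

namespace Cfsg.Agent.Lib.Helper26.WC

open Cfsg Cfsg.Lie Matrix Cfsg.Agent.Lib.Helper8.Chev Cfsg.Agent.Lib.Helper26.ChevNsl

/-- an additive subgroup of a finite field which is stable under multiplication by non-zero
squares and contains a non-zero element is everything -/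
theorem addSubgroup_eq_top_of_sq {F : Type*} [Field F] [Finite F] (A : AddSubgroup F)
    (hA : ∀ c : F, c ≠ 0 → ∀ u ∈ A, c ^ 2 * u ∈ A) {u0 : F} (hu0 : u0 ∈ A) (hne : u0 ≠ 0)
    (v : F) : v ∈ A := by
  have hA' : ∀ c : F, ∀ u ∈ A, c ^ 2 * u ∈ A := by
    intro c u hu
    by_cases hc : c = 0
    · rw [hc]; simp
    · exact hA c hc u hu
  have key : ∀ w : F, w * u0 ∈ A := by
    intro w
    by_cases h2 : (2 : F) = 0
    · haveI : CharP F 2 := by
        have := CharP.charP_iff_prime_eq_zero (R := F) Nat.prime_two
        exact this.mpr (by exact_mod_cast h2)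
      have hr : ringChar F = 2 := ringChar.eq F 2
      obtain ⟨a, ha⟩ := FiniteField.isSquare_of_char_two hr w
      rw [ha, ← pow_two]
      exact hA' a u0 hu0
    · have e : w = ((w + 1) / 2) ^ 2 - ((w - 1) / 2) ^ 2 := by
        field_simp
        ring
      rw [e, sub_mul]
      exact A.sub_mem (hA' _ u0 hu0) (hA' _ u0 hu0)
  have := key (v / u0)
  rwa [div_mul_cancel₀ v hne] at this

section

variable {D : ChevalleyDatum} {F : Type*} [Field F]

/-- a subgroup of `U` normalised by the positive root elements and by the torus elements -/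
structure BNorm (hD : D ∈ [chevG2, chevB2, chevD4, chevF4, chevE6, chevE7, chevE8])
    (X : Subgroup ↥(D.group F)) : Prop where
  le_pos : ∀ g ∈ X, ((g : ↥(D.group F)) : GL D.Idx F) ∈ D.posUnipotent F
  conj_x : ∀ r, D.nroots / 2 ≤ r → r < D.nroots → ∀ (u : F), ∀ g ∈ X,
    xEl hD r u * g * (xEl hD r u)⁻¹ ∈ X
  conj_h : ∀ p, p < D.nroots → ∀ (c : F), c ≠ 0 → ∀ g ∈ X,
    hEl hD p c * g * (hEl hD p c)⁻¹ ∈ X

variable {hD : D ∈ [chevG2, chevB2, chevD4, chevF4, chevE6, chevE7, chevE8]}
  {X : Subgroup ↥(D.group F)}

theorem BNorm.conj_w (B : BNorm hD X) (w : List (ℕ × F))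
    (hw : ∀ p ∈ w, D.nroots / 2 ≤ p.1 ∧ p.1 < D.nroots) {g : ↥(D.group F)} (hg : g ∈ X) :
    wEl hD w * g * (wEl hD w)⁻¹ ∈ X := by
  induction w with
  | nil => simpa [wEl_nil] using hg
  | cons p w ih =>
    have h1 := ih (fun q hq => hw q (List.mem_cons_of_mem _ hq))
    have h2 := B.conj_x p.1 (hw p List.mem_cons_self).1 (hw p List.mem_cons_self).2 p.2 _ h1
    rw [wEl_cons, _root_.mul_inv_rev]
    have e : xEl hD p.1 p.2 * wEl hD w * g * ((wEl hD w)⁻¹ * (xEl hD p.1 p.2)⁻¹) =
        xEl hD p.1 p.2 * (wEl hD w * g * (wEl hD w)⁻¹) * (xEl hD p.1 p.2)⁻¹ := by group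
    rw [e]
    exact h2

theorem BNorm.conj_w_inv (B : BNorm hD X) (w : List (ℕ × F))
    (hw : ∀ p ∈ w, D.nroots / 2 ≤ p.1 ∧ p.1 < D.nroots) {g : ↥(D.group F)} (hg : g ∈ X) :
    (wEl hD w)⁻¹ * g * wEl hD w ∈ X := by
  have h := B.conj_w (w.reverse.map fun p => (p.1, -p.2)) (by
    intro p hp
    rw [List.mem_map] at hp
    obtain ⟨q, hq, rfl⟩ := hp
    exact hw q (List.mem_reverse.mp hq)) hg
  rw [← wEl_inv, inv_inv] at h
  exact h

/-- elements of `X` are ordered products -/
theorem BNorm.exists_seg (B : BNorm hD X) {g : ↥(D.group F)} (hg : g ∈ X) :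
    ∃ t : ℕ → F, g = segEl hD (D.nroots / 2) t := by
  obtain ⟨t, ht⟩ := posUnipotent_exists hD (B.le_pos g hg)
  refine ⟨t, ?_⟩
  apply Subtype.ext
  apply Units.ext
  unfold segEl
  rw [ht, coe_wEl]

/-- a root subgroup meeting `X` non-trivially lies in `X` -/
theorem BNorm.root_full [Finite F] (B : BNorm hD X) {s : ℕ} (hs : s < D.nroots) {b : F}
    (hb : b ≠ 0) (h : xEl hD s b ∈ X) (u : F) : xEl hD s u ∈ X := by
  let A : AddSubgroup F :=
    { carrier := {v | xEl hD s v ∈ X}
      add_mem' := by
        intro v w hv hw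
        show xEl hD s (v + w) ∈ X
        rw [xEl_add hD hs]
        exact X.mul_mem hv hw
      zero_mem' := by
        show xEl hD s 0 ∈ X
        rw [xEl_zero]
        exact X.one_mem
      neg_mem' := by
        intro v hv
        show xEl hD s (-v) ∈ X
        rw [← xEl_inv hD hs]
        exact X.inv_mem hv }
  have hA : ∀ c : F, c ≠ 0 → ∀ v ∈ A, c ^ 2 * v ∈ A := by
    intro c hc v hv
    have h1 := B.conj_h s hs c hc _ hv
    have h2 := hEl_mul_xEl hD hs hs hc v
    rw [aco_self hD hs] at h2
    rw [h2, mul_inv_cancel_right] at h1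
    have e : c ^ (2 : ℤ) = c ^ 2 := by norm_cast
    rw [e] at h1
    exact h1
  exact addSubgroup_eq_top_of_sq A hA (u0 := b) h hb u

/-- the separation property from the root `k` on -/
def SepP (hD : D ∈ [chevG2, chevB2, chevD4, chevF4, chevE6, chevE7, chevE8])
    (X : Subgroup ↥(D.group F)) (k : ℕ) : Prop :=
  ∀ t : ℕ → F, segEl hD k t ∈ X → ∀ r, k ≤ r → r < D.nroots → xEl hD r (t r) ∈ X

/-- the step of the separation: the second non-trivial coordinate can be split off -/
def StepH (hD : D ∈ [chevG2, chevB2, chevD4, chevF4, chevE6, chevE7, chevE8])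
    (X : Subgroup ↥(D.group F)) (k s : ℕ) : Prop :=
  (∀ k', k < k' → k' ≤ D.nroots → SepP hD X k') → ∀ (a b : F) (t : ℕ → F), b ≠ 0 →
    xEl hD k a * (xEl hD s b * segEl hD (s + 1) t) ∈ X → xEl hD s b ∈ X

/-- the separation lemma, given the steps -/
theorem BNorm.sepP (B : BNorm hD X)
    (hstep : ∀ k s, D.nroots / 2 ≤ k → k < s → s < D.nroots → StepH hD X k s) :
    ∀ d k, k + d = D.nroots → D.nroots / 2 ≤ k → SepP hD X k := by
  intro d
  induction d using Nat.strong_induction_on with
  | _ d IH =>
    intro k hkd hk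
    rcases Nat.eq_zero_or_pos d with hd | hd
    · intro t _ r h1 h2
      omega
    · have hkn : k < D.nroots := by omega
      have IH' : ∀ k', k < k' → k' ≤ D.nroots → SepP hD X k' := by
        intro k' h1 h2
        exact IH (D.nroots - k') (by omega) k' (by omega) (by omega)
      -- the inner induction
      have inner : ∀ e s, s + e = D.nroots → k < s → ∀ (a : F) (t : ℕ → F),
          xEl hD k a * segEl hD s t ∈ X → xEl hD k a ∈ X := by
        intro e
        induction e with
        | zero =>
          intro s hs _ a t h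
          have : s = D.nroots := by omega
          rw [this, segEl_top, mul_one] at h
          exact h
        | succ e ihe =>
          intro s hs hks a t h
          have hsn : s < D.nroots := by omega
          rw [segEl_succ hD hsn] at h
          by_cases h0 : t s = 0
          · rw [h0, xEl_zero, one_mul] at h
            exact ihe (s + 1) (by omega) (by omega) a t h
          · have hsb := hstep k s hk hks hsn IH' a (t s) t h0 h
            have hc := B.conj_w_inv (segW D (s + 1) t)
              (fun p hp => ⟨by have := (segW_mem hp).1; omega, (segW_mem hp).2⟩)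
              (X.inv_mem hsb)
            have hm := X.mul_mem h hc
            have e1 : xEl hD k a * (xEl hD s (t s) * segEl hD (s + 1) t) *
                ((wEl hD (segW D (s + 1) t))⁻¹ * (xEl hD s (t s))⁻¹ * wEl hD (segW D (s + 1) t)) =
                xEl hD k a * segEl hD (s + 1) t := by
              unfold segEl
              group
            rw [e1] at hm
            exact ihe (s + 1) (by omega) (by omega) a t hm
      intro t ht r h1 h2
      have hk1 : xEl hD k (t k) ∈ X := by
        rw [segEl_succ hD hkn] at ht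
        exact inner (D.nroots - (k + 1)) (k + 1) (by omega) (by omega) (t k) t ht
      rcases Nat.eq_or_lt_of_le h1 with h | h
      · rw [← h]; exact hk1
      · have ht' : segEl hD (k + 1) t ∈ X := by
          have := X.mul_mem (X.inv_mem hk1) ht
          rw [segEl_succ hD hkn, inv_mul_cancel_left] at this
          exact this
        exact IH' (k + 1) (by omega) (by omega) t ht' r (by omega) h2

/-- the step from a separating torus element -/
theorem stepH_of_torus [Finite F] (B : BNorm hD X) {k s : ℕ} (hk : D.nroots / 2 ≤ k)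
    (hks : k < s) (hs : s < D.nroots) {p : ℕ} (hp : p < D.nroots) {c : F} (hc : c ≠ 0)
    (h0 : aco D p k = 0) (h1 : c ^ aco D p s ≠ 1) : StepH hD X k s := by
  intro IH a b t hb hx
  have hkn : k < D.nroots := by omega
  -- the conjugate by the torus element
  have hy := B.conj_h p hp c hc _ hx
  have e1 : hEl hD p c * (xEl hD k a * (xEl hD s b * segEl hD (s + 1) t)) =
      xEl hD k a * (xEl hD s (c ^ aco D p s * b) *
        segEl hD (s + 1) (fun r => c ^ aco D p r * t r)) * hEl hD p c := by
    rw [← mul_assoc, hEl_mul_xEl hD hp hkn hc, h0, zpow_zero, one_mul, mul_assoc (xEl hD k a),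
      ← mul_assoc (hEl hD p c), hEl_mul_xEl hD hp hs hc, mul_assoc (xEl hD s _),
      hEl_mul_segEl hD hp hc]
    group
  rw [e1, mul_inv_cancel_right] at hy
  -- the quotient
  have hz := X.mul_mem (X.inv_mem hx) hy
  set t' : ℕ → F := fun r => c ^ aco D p r * t r with ht'
  set d : F := -b + c ^ aco D p s * b with hd
  have e2 : (xEl hD k a * (xEl hD s b * segEl hD (s + 1) t))⁻¹ *
      (xEl hD k a * (xEl hD s (c ^ aco D p s * b) * segEl hD (s + 1) t')) =
      wEl hD ((((segW D (s + 1) t).reverse.map fun q => (q.1, -q.2)) ++ [(s, d)]) ++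
        segW D (s + 1) t') := by
    rw [wEl_append, wEl_append, ← wEl_inv, wEl_singleton, hd, xEl_add hD hs,
      ← xEl_inv hD hs]
    unfold segEl
    group
  rw [e2] at hz
  obtain ⟨t'', ht''⟩ := word_eq_seg hD (k := s) (by omega) (by omega)
    ((((segW D (s + 1) t).reverse.map fun q => (q.1, -q.2)) ++ [(s, d)]) ++ segW D (s + 1) t')
    (by
      intro q hq
      rw [List.mem_append, List.mem_append] at hq
      rcases hq with (hq | hq) | hq
      · rw [List.mem_map] at hq
        obtain ⟨q', hq', rfl⟩ := hq
        have := segW_mem (List.mem_reverse.mp hq')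
        exact ⟨by omega, this.2⟩
      · rw [List.mem_singleton] at hq
        subst hq
        exact ⟨le_refl _, hs⟩
      · have := segW_mem hq
        exact ⟨by omega, this.2⟩)
  rw [ht''] at hz
  have hss := IH s hks (by omega) t'' hz s (le_refl _) hs
  -- the leading coordinate does not vanish
  have hne : t'' s ≠ 0 := by
    intro h00
    have hz2 : wEl hD ((((segW D (s + 1) t).reverse.map fun q => (q.1, -q.2)) ++ [(s, d)]) ++
        segW D (s + 1) t') = segEl hD (s + 1) t'' := by
      rw [ht'', segEl_succ hD hs, h00, xEl_zero, one_mul]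
    rw [← e2] at hz2
    obtain ⟨t3, ht3⟩ := collectG hD (k := s + 1) (by omega) (by omega) (segW D (s + 1) t)
      (fun q hq => segW_mem hq) t''
    have e3 : xEl hD s (c ^ aco D p s * b) * wEl hD (segW D (s + 1) t') =
        xEl hD s b * wEl hD (segW D (s + 1) t3) := by
      have : xEl hD k a * (xEl hD s (c ^ aco D p s * b) * segEl hD (s + 1) t') =
          xEl hD k a * (xEl hD s b * segEl hD (s + 1) t) * segEl hD (s + 1) t'' := by
        rw [← hz2]
        group
      have ht3' : segEl hD (s + 1) t * segEl hD (s + 1) t'' = segEl hD (s + 1) t3 := ht3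
      rw [mul_assoc, mul_assoc, ht3'] at this
      have := mul_left_cancel this
      unfold segEl at this
      exact this
    have := first_coord hD (by omega) hs _ _ _ _ (fun q hq => segW_mem hq)
      (fun q hq => segW_mem hq) e3
    apply h1
    have hb' : (c ^ aco D p s - 1) * b = 0 := by rw [sub_mul, one_mul, this, sub_self]
    rcases mul_eq_zero.mp hb' with h | h
    · exact sub_eq_zero.mp h
    · exact absurd h hb
  exact B.root_full hs hne hss b

end

end Cfsg.Agent.Lib.Helper26.WC
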