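import Cfsg.Agent.Lib.Helper26.WC.WC2
import Cfsg.Agent.Lib.Helper8.ChevPar7

set_option autoImplicit false

/-! Weakly closed subgroups of `U` (S2244), part 3: sorted words, reflections, and the roots of a
weakly closed subgroup. -/

namespace Cfsg.Agent.Lib.Helper26.WC

open Cfsg Cfsg.Lie Matrix Cfsg.Agent.Lib.Helper8.Chev Cfsg.Agent.Lib.Helper26.ChevNsl

section

variable {D : ChevalleyDatum} {F : Type*} [Field F]

theorem segEl_zero (hD : D ∈ [chevG2, chevB2, chevD4, chevF4, chevE6, chevE7, chevE8])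
    (k : ℕ) : segEl hD k (fun _ => (0 : F)) = 1 := by
  have V := valid0_of_mem hD
  apply Subtype.ext
  apply Units.ext
  unfold segEl
  rw [coe_wEl, wN_segW_zero V]
  rfl

/-- the coefficient of a root in a word -/
def wcoef (w : List (ℕ × F)) (r : ℕ) : F := (w.lookup r).getD 0

theorem wcoef_nil (r : ℕ) : wcoef ([] : List (ℕ × F)) r = 0 := rfl

theorem wcoef_cons_self (p : ℕ × F) (w : List (ℕ × F)) : wcoef (p :: w) p.1 = p.2 := by
  unfold wcoef
  rw [List.lookup_cons_self]
  rfl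

theorem wcoef_cons_ne (p : ℕ × F) (w : List (ℕ × F)) {r : ℕ} (h : r ≠ p.1) :
    wcoef (p :: w) r = wcoef w r := by
  unfold wcoef
  rw [List.lookup_cons]
  have : (r == p.1) = false := by simpa using h
  rw [this]

theorem wcoef_eq_zero (w : List (ℕ × F)) {r : ℕ} (h : ∀ p ∈ w, p.1 ≠ r) : wcoef w r = 0 := by
  induction w with
  | nil => rfl
  | cons p w ih =>
    rw [wcoef_cons_ne _ _ (fun e => h p List.mem_cons_self e.symm)]
    exact ih (fun q hq => h q (List.mem_cons_of_mem _ hq))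

/-- a word with strictly increasing letters is the ordered product of its coefficients -/
theorem wEl_sorted (hD : D ∈ [chevG2, chevB2, chevD4, chevF4, chevE6, chevE7, chevE8])
    (w : List (ℕ × F)) (hs : w.Pairwise (fun a b => a.1 < b.1)) :
    ∀ k, k ≤ D.nroots → (∀ p ∈ w, k ≤ p.1 ∧ p.1 < D.nroots) →
      wEl hD w = segEl hD k (wcoef w) := by
  induction w with
  | nil =>
    intro k _ _
    rw [wEl_nil]
    have : wcoef ([] : List (ℕ × F)) = fun _ => 0 := by funext r; rfl
    rw [this, segEl_zero]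
  | cons p w ih =>
    intro k hk hw
    rw [List.pairwise_cons] at hs
    have hp := hw p List.mem_cons_self
    have h1 : segEl hD k (wcoef (p :: w)) = segEl hD p.1 (wcoef (p :: w)) := by
      apply segEl_of_zero hD _ (p.1 - k) k p.1 (by omega) (le_of_lt hp.2)
      intro r _ hr2
      apply wcoef_eq_zero
      intro q hq
      rcases List.mem_cons.mp hq with rfl | hq
      · omega
      · have := hs.1 q hq
        omega
    rw [h1, segEl_succ hD hp.2, wcoef_cons_self, wEl_cons]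
    congr 1
    rw [ih hs.2 (p.1 + 1) (by omega) (fun q hq => ⟨by have := hs.1 q hq; omega,
      (hw q (List.mem_cons_of_mem _ hq)).2⟩)]
    apply segEl_congr
    intro r hr1 _
    rw [wcoef_cons_ne _ _ (by omega)]

/-- a product of letters of a subgroup lies in the subgroup -/
theorem wEl_mem (hD : D ∈ [chevG2, chevB2, chevD4, chevF4, chevE6, chevE7, chevE8])
    (S : Subgroup ↥(D.group F)) (w : List (ℕ × F)) (hw : ∀ p ∈ w, xEl hD p.1 p.2 ∈ S) :
    wEl hD w ∈ S := by
  induction w with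
  | nil => rw [wEl_nil]; exact S.one_mem
  | cons p w ih =>
    rw [wEl_cons]
    exact S.mul_mem (hw p List.mem_cons_self) (ih (fun q hq => hw q (List.mem_cons_of_mem _ hq)))

theorem xEl_mem_pos (hD : D ∈ [chevG2, chevB2, chevD4, chevF4, chevE6, chevE7, chevE8])
    {r : ℕ} (hr : D.nroots / 2 ≤ r) (hrn : r < D.nroots) (t : F) :
    ((xEl hD r t : ↥(D.group F)) : GL D.Idx F) ∈ D.posUnipotent F := by
  have P := posP_of_mem hD
  exact Subgroup.subset_closure ⟨r, t, (P r hrn).1.mpr hr, coe_xEl hD hrn t⟩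

/-- a root element of a negative root lying in `U` is trivial -/
theorem eq_zero_of_neg_mem_pos (hD : D ∈ [chevG2, chevB2, chevD4, chevF4, chevE6, chevE7, chevE8])
    {r : ℕ} (hr : r < D.nroots / 2) {t : F}
    (h : ((xEl hD r t : ↥(D.group F)) : GL D.Idx F) ∈ D.posUnipotent F) : t = 0 := by
  have J := validJ_of_mem hD
  have V1 := valid1_of_mem hD
  have H := validH_of_mem hD
  have Tr := triP_of_mem hD
  have P := posP_of_mem hD
  have hrn : r < D.nroots := by omega
  have hV : ((xEl hD r t : ↥(D.group F)) : GL D.Idx F) ∈ D.negUnipotent F :=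
    Subgroup.subset_closure ⟨r, t, (P r hrn).2.mpr hr, coe_xEl hD hrn t⟩
  have hbot : ((xEl hD r t : ↥(D.group F)) : GL D.Idx F) ∈
      D.borelSubgroup F ⊓ D.negUnipotent F := ⟨pos_le_borel h, hV⟩
  rw [borel_inf_neg J V1 H Tr P, Subgroup.mem_bot] at hbot
  have h1 : (xEl hD r t : ↥(D.group F)) = xEl hD r 0 := by
    rw [xEl_zero]
    exact Subtype.ext hbot
  exact xEl_inj hD hrn h1

/-- conjugating by `n_i` a word of positive roots avoiding the `i`-th fundamental root -/
theorem nEl_conj_word_mem_pos (hD : D ∈ [chevG2, chevB2, chevD4, chevF4, chevE6, chevE7, chevE8])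
    {i : ℕ} (hi : i < D.rank) (w : List (ℕ × F))
    (hw : ∀ q ∈ w, D.nroots / 2 ≤ q.1 ∧ q.1 < D.nroots ∧ (q.1 ≠ D.simple i ∨ q.2 = 0)) :
    ((nEl hD F i * wEl hD w * (nEl hD F i)⁻¹ : ↥(D.group F)) : GL D.Idx F) ∈
      D.posUnipotent F := by
  have J := validJ_of_mem hD
  induction w with
  | nil =>
    rw [wEl_nil, mul_one, mul_inv_cancel]
    exact (D.posUnipotent F).one_mem
  | cons q w ih =>
    have h1 := ih (fun q' hq' => hw q' (List.mem_cons_of_mem _ hq'))
    obtain ⟨hq1, hq2, hq3⟩ := hw q List.mem_cons_self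
    obtain ⟨hlt, ε, _, hε⟩ := nEl_mul_xEl_gen (F := F) hD hi hq2
    have e : nEl hD F i * wEl hD (q :: w) * (nEl hD F i)⁻¹ =
        xEl hD (D.reflectRoot i q.1) (ε * q.2) * (nEl hD F i * wEl hD w * (nEl hD F i)⁻¹) := by
      rw [wEl_cons, ← mul_assoc, hε q.2]
      group
    rw [e, Subgroup.coe_mul]
    refine (D.posUnipotent F).mul_mem ?_ h1
    rcases hq3 with h | h
    · exact xEl_mem_pos hD ((refl_pos J (checkRP_of_mem hD) hi).2 q.1 hq2 hq1 h) hlt _
    · rw [h, mul_zero, xEl_zero]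
      exact (D.posUnipotent F).one_mem

/-- the roots of a commutator formula of two roots of `Φ_J` are in `Φ_J` -/
theorem inRootSub_commTerms (hD : D ∈ [chevG2, chevB2, chevD4, chevF4, chevE6, chevE7, chevE8])
    (J : Set ℕ) {r s : ℕ} (h1 : D.InRootSub J r) (h2 : D.InRootSub J s)
    {c : ℕ × ℤ × ℕ × ℕ} (hc : c ∈ D.commTerms r s) (hcn : c.1 < D.nroots) :
    D.InRootSub J c.1 := by
  have V := valid0_of_mem hD
  have hr := h1.1
  have hs := h2.1
  refine ⟨hcn, fun t ht htJ => ?_⟩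
  have z1 : rc D r t = 0 := (rc_eq_zero_iff hD hr ht).mpr (h1.2 t ht htJ)
  have z2 : rc D s t = 0 := (rc_eq_zero_iff hD hs ht).mpr (h2.2 t ht htJ)
  have W := rc_isWt hD ht
  have goal : rc D c.1 t = 0 := by
    rcases commTerms_root hc with ⟨i, h⟩ | ⟨i, h⟩ | ⟨k, h3, h4⟩ | ⟨k, h3, h4⟩
    · obtain ⟨_, m, _, e⟩ := chainRoot_wt V W hr hs h

      rw [e, z1, z2]; ring
    · obtain ⟨_, m, _, e⟩ := chainRoot_wt V W hs hr h

      rw [e, z1, z2]; ring
    · obtain ⟨hk, m, _, e⟩ := chainRoot_wt V W hr hs h3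
      obtain ⟨_, m', _, e'⟩ := chainRoot_wt V W hk hs h4

      rw [e', e, z1, z2]; ring
    · obtain ⟨hk, m, _, e⟩ := chainRoot_wt V W hs hr h3
      obtain ⟨_, m', _, e'⟩ := chainRoot_wt V W hk hr h4

      rw [e', e, z1, z2]; ring
  exact (rc_eq_zero_iff hD hcn ht).mp goal

end

end Cfsg.Agent.Lib.Helper26.WC
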