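import Cfsg.Agent.Lib.Helper26.WC.WC3

set_option autoImplicit false

/-! Weakly closed subgroups of `U` (S2244), part 4: the assembly, given the separation steps and
the ascent witnesses. -/

namespace Cfsg.Agent.Lib.Helper26.WC

open Cfsg Cfsg.Lie Matrix Cfsg.Agent.Lib.Helper8.Chev Cfsg.Agent.Lib.Helper26.ChevNsl

section

variable {D : ChevalleyDatum} {F : Type*} [Field F]

/-- the weak closure hypothesis -/
def WeaklyClosed (D : ChevalleyDatum) (F : Type*) [Field F] (X : Subgroup (GL D.Idx F)) : Prop :=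
  ∀ g ∈ D.group F, X.map (MulAut.conj g).toMonoidHom ≤ D.posUnipotent F →
    X.map (MulAut.conj g).toMonoidHom = X

theorem conj_mem_of_wc {X : Subgroup (GL D.Idx F)} (hXU : X ≤ D.posUnipotent F)
    (hwc : WeaklyClosed D F X) {g : GL D.Idx F} (hg : g ∈ D.group F)
    (hU : ∀ x ∈ X, g * x * g⁻¹ ∈ D.posUnipotent F) {x : GL D.Idx F}
    (hx : x ∈ X) : g * x * g⁻¹ ∈ X := by
  have h := hwc g hg (by
    rintro y ⟨x', hx', rfl⟩
    exact hU x' hx')
  rw [← h]
  exact ⟨x, hx, rfl⟩

/-- a weakly closed subgroup of `U` is normalised by `U` and `H` -/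
theorem bnorm_of_wc (hD : D ∈ [chevG2, chevB2, chevD4, chevF4, chevE6, chevE7, chevE8])
    {X : Subgroup (GL D.Idx F)} (hXU : X ≤ D.posUnipotent F) (hwc : WeaklyClosed D F X) :
    BNorm hD (X.subgroupOf (D.group F)) := by
  have J := validJ_of_mem hD
  have V1 := valid1_of_mem hD
  have H := validH_of_mem hD
  refine ⟨fun g hg => hXU (Subgroup.mem_subgroupOf.mp hg), ?_, ?_⟩
  · intro r hr hrn u g hg
    rw [Subgroup.mem_subgroupOf] at hg ⊢
    rw [Subgroup.coe_mul, Subgroup.coe_mul, Subgroup.coe_inv]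
    apply conj_mem_of_wc hXU hwc (xEl hD r u).2 _ hg
    intro x hx
    have := xEl_mem_pos hD hr hrn u
    exact (D.posUnipotent F).mul_mem ((D.posUnipotent F).mul_mem this (hXU hx))
      ((D.posUnipotent F).inv_mem this)
  · intro p hp c hc g hg
    rw [Subgroup.mem_subgroupOf] at hg ⊢
    rw [Subgroup.coe_mul, Subgroup.coe_mul, Subgroup.coe_inv]
    apply conj_mem_of_wc hXU hwc (hEl hD p c).2 _ hg
    intro x hx
    have hn := diagonal_le_normalizer_pos (F := F) J V1 H (hEl_mem_diagonal hD hp hc)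
    exact (Subgroup.mem_normalizer_iff.mp hn x).mp (hXU hx)

/-- the statement of the ascent witnesses -/
def AscWit (D : ChevalleyDatum) : Prop :=
  ∀ r, D.nroots / 2 ≤ r → r < D.nroots → (∀ i < D.rank, r ≠ D.simple i) →
    ∃ r1 r2, D.nroots / 2 ≤ r1 ∧ r1 < r ∧ D.nroots / 2 ≤ r2 ∧ r2 < r ∧ r1 ≠ r2 ∧
      (D.commTerms r1 r2).Pairwise (fun a b => a.1 < b.1) ∧
      (∀ c ∈ D.commTerms r1 r2, r1 < c.1 ∧ r2 < c.1 ∧ c.1 < D.nroots) ∧
      ∃ c ∈ D.commTerms r1 r2, c.1 = r ∧ (c.2.1 = 1 ∨ c.2.1 = -1)

theorem wcoef_of_mem (w : List (ℕ × F)) (hs : w.Pairwise (fun a b => a.1 < b.1))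
    {p : ℕ × F} (hp : p ∈ w) : wcoef w p.1 = p.2 := by
  induction w with
  | nil => simp at hp
  | cons q w ih =>
    rw [List.pairwise_cons] at hs
    rcases List.mem_cons.mp hp with rfl | hp'
    · exact wcoef_cons_self _ _
    · have := hs.1 p hp'
      rw [wcoef_cons_ne _ _ (by omega)]
      exact ih hs.2 hp'

/-- the main theorem, given the separation steps and the ascent witnesses -/
theorem main_of_steps [Finite F]
    (hD : D ∈ [chevG2, chevB2, chevD4, chevF4, chevE6, chevE7, chevE8])
    (X : Subgroup (GL D.Idx F)) (hXU : X ≤ D.posUnipotent F) (hwc : WeaklyClosed D F X)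
    (hstep : ∀ k s, D.nroots / 2 ≤ k → k < s → s < D.nroots →
      StepH hD (X.subgroupOf (D.group F)) k s)
    (hasc : AscWit D) :
    ∃ J : Set ℕ, (∀ j ∈ J, j < D.rank) ∧ X = D.unipotentRadical F J := by
  have V := valid0_of_mem hD
  have V1 := valid1_of_mem hD
  have VJ := validJ_of_mem hD
  have VH := validH_of_mem hD
  have P := posP_of_mem hD
  have hXG : X ≤ D.group F := le_trans hXU pos_le_group
  set X' : Subgroup ↥(D.group F) := X.subgroupOf (D.group F) with hX'
  have memX' : ∀ g : ↥(D.group F), g ∈ X' ↔ (g : GL D.Idx F) ∈ X := fun g =>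
    Subgroup.mem_subgroupOf
  have B : BNorm hD X' := bnorm_of_wc hD hXU hwc
  have S : SepP hD X' (D.nroots / 2) :=
    B.sepP hstep (D.nroots - D.nroots / 2) (D.nroots / 2) (by omega) (le_refl _)
  -- the set of fundamental reflections normalising `X`
  let J : Set ℕ := {i | i < D.rank ∧ ∀ g ∈ X', nEl hD F i * g * (nEl hD F i)⁻¹ ∈ X'}
  -- the roots of `X`
  let Ψ : ℕ → Prop := fun r => D.nroots / 2 ≤ r ∧ r < D.nroots ∧ ∃ b : F, b ≠ 0 ∧ xEl hD r b ∈ X'
  have full : ∀ r, Ψ r → ∀ u : F, xEl hD r u ∈ X' := by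
    rintro r ⟨_, hrn, b, hb, hbX⟩ u
    exact B.root_full hrn hb hbX u
  -- stability under the reflections of `J`
  have refl : ∀ i ∈ J, ∀ r, Ψ r → Ψ (D.reflectRoot i r) := by
    rintro i ⟨hi, hiX⟩ r ⟨_, hrn, b, hb, hbX⟩
    obtain ⟨hlt, ε, hε, hconj⟩ := nEl_mul_xEl_gen (F := F) hD hi hrn
    have h1 := hiX _ hbX
    rw [hconj b, mul_inv_cancel_right] at h1
    have hne : ε * b ≠ 0 := by
      rcases hε with rfl | rfl
      · simpa using hb
      · simpa using hb
    refine ⟨?_, hlt, ε * b, hne, h1⟩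
    by_contra hneg
    rw [not_le] at hneg
    exact hne (eq_zero_of_neg_mem_pos hD hneg (B.le_pos _ h1))
  have reflW : ∀ l : List ℕ, (∀ i ∈ l, i < D.rank ∧ i ∈ J) → ∀ r, Ψ r → Ψ (reflWord D l r) := by
    intro l
    induction l with
    | nil => intro _ r hr; exact hr
    | cons i l ih =>
      intro hl r hr
      rw [reflWord_cons]
      exact refl i (hl i List.mem_cons_self).2 _
        (ih (fun j hj => hl j (List.mem_cons_of_mem _ hj)) r hr)
  -- the roots of `X` are outside `Φ_J`
  have notJ : ∀ r, Ψ r → ¬ D.InRootSub J r := by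
    intro r hr hJ
    obtain ⟨l, hl, j, hj, hjJ, e⟩ := inRootSub_form hD J hJ
    have hl' : ∀ i ∈ l.reverse, i < D.rank ∧ i ∈ J := fun i hi => hl i (List.mem_reverse.mp hi)
    have h1 := reflW l.reverse hl' r hr
    have hpj := (VJ.S j hj).1
    have h2 : reflWord D l.reverse r = D.simple j := by
      rw [← e]
      have := reflWord_reverse_cancel VJ VH.nS (checkInv_of_mem hD) (l := l.reverse)
        (fun i hi => (hl' i hi).1) hpj
      rwa [List.reverse_reverse] at this
    rw [h2] at h1
    have h3 := refl j hjJ _ h1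
    rw [reflectRoot_simple, V.neg_eq _ hpj] at h3
    have := h1.1
    have := h3.1
    have := V.even
    omega
  -- the fundamental roots outside `J`
  have simp' : ∀ i, i < D.rank → i ∉ J → Ψ (D.simple i) := by
    intro i hi hiJ
    have hpi := (VJ.S i hi).1
    have hpos := (refl_pos VJ (checkRP_of_mem hD) hi).1
    have hex : ∃ g ∈ X', nEl hD F i * g * (nEl hD F i)⁻¹ ∉ X' := by
      by_contra hcon
      push Not at hcon
      exact hiJ ⟨hi, hcon⟩
    obtain ⟨g, hg, hgn⟩ := hex
    -- some element of `X` is conjugated outside `U`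
    have hex2 : ∃ x ∈ X', ((nEl hD F i * x * (nEl hD F i)⁻¹ : ↥(D.group F)) : GL D.Idx F) ∉
        D.posUnipotent F := by
      by_contra hcon
      push Not at hcon
      apply hgn
      rw [memX', Subgroup.coe_mul, Subgroup.coe_mul, Subgroup.coe_inv]
      apply conj_mem_of_wc hXU hwc (nEl hD F i).2 _ ((memX' g).mp hg)
      intro x hx
      have := hcon ⟨x, hXG hx⟩ ((memX' _).mpr hx)
      rwa [Subgroup.coe_mul, Subgroup.coe_mul, Subgroup.coe_inv] at this
    obtain ⟨x, hx, hxn⟩ := hex2
    obtain ⟨t, ht⟩ := B.exists_seg hx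
    have hne : t (D.simple i) ≠ 0 := by
      intro h0
      apply hxn
      rw [ht]
      unfold segEl
      apply nEl_conj_word_mem_pos hD hi
      intro q hq
      have h1 := segW_mem hq
      refine ⟨h1.1, h1.2, ?_⟩
      unfold segW at hq
      rw [List.mem_map] at hq
      obtain ⟨r, _, rfl⟩ := hq
      by_cases hr : r = D.simple i
      · right
        show t r = 0
        rw [hr, h0]
      · left; exact hr
    rw [ht] at hx
    exact ⟨hpos, hpi, t (D.simple i), hne, S t hx _ hpos hpi⟩
  -- the ascent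
  have asc : ∀ r, D.nroots / 2 ≤ r → r < D.nroots → ¬ D.InRootSub J r → Ψ r := by
    intro r
    induction r using Nat.strong_induction_on with
    | _ r IH =>
      intro hr hrn hrJ
      by_cases hsimple : ∃ i, i < D.rank ∧ r = D.simple i
      · obtain ⟨i, hi, rfl⟩ := hsimple
        apply simp' i hi
        intro hiJ
        exact hrJ (inRootSub_simple hD J hi hiJ)
      · push Not at hsimple
        obtain ⟨r1, r2, h1, h1r, h2, h2r, hne, hsort, hlet, c, hc, hcr, hc1⟩ :=
          hasc r hr hrn hsimple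
        have hr1n : r1 < D.nroots := by omega
        have hr2n : r2 < D.nroots := by omega
        -- the commutator word lies in `X'`
        have hw : ∀ t u : F, wEl hD (D.commWord F r1 r2 t u) ∈ X' := by
          intro t u
          have hcr' := comm_rel (F := F) hD hr1n hr2n (Ne.symm hne)
            (by rw [V.neg_eq _ hr1n]; have := V.even; omega) t u
          have e : wEl hD (D.commWord F r1 r2 t u) =
              (xEl hD r2 u)⁻¹ * (xEl hD r1 t)⁻¹ * xEl hD r2 u * xEl hD r1 t := by
            have : xEl hD r1 t * xEl hD r2 u * wEl hD (D.commWord F r1 r2 t u) =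
                xEl hD r2 u * xEl hD r1 t := hcr'.symm
            rw [mul_assoc _ _ (xEl hD r1 t), mul_assoc _ _ (xEl hD r2 u * xEl hD r1 t), ← this]
            group
          rw [e]
          have hnot : ¬ (D.InRootSub J r1 ∧ D.InRootSub J r2) := by
            rintro ⟨ha, hb⟩
            apply hrJ
            rw [← hcr]
            exact inRootSub_commTerms hD J ha hb hc (hlet c hc).2.2
          by_cases ha : D.InRootSub J r1
          · have hb : ¬ D.InRootSub J r2 := fun hb => hnot ⟨ha, hb⟩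
            have hΨ := full r2 (IH r2 h2r h2 hr2n hb)
            have h3 := B.conj_x r1 h1 hr1n (-t) _ (hΨ u)
            rw [← xEl_inv hD hr1n, inv_inv] at h3
            have e2 : (xEl hD r2 u)⁻¹ * (xEl hD r1 t)⁻¹ * xEl hD r2 u * xEl hD r1 t =
                (xEl hD r2 u)⁻¹ * ((xEl hD r1 t)⁻¹ * xEl hD r2 u * xEl hD r1 t) := by group
            rw [e2]
            exact X'.mul_mem (X'.inv_mem (hΨ u)) h3
          · have hΨ := full r1 (IH r1 h1r h1 hr1n ha)
            have h3 := B.conj_x r2 h2 hr2n (-u) _ (X'.inv_mem (hΨ t))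
            rw [← xEl_inv hD hr2n, inv_inv] at h3
            exact X'.mul_mem h3 (hΨ t)
        -- the word with `t = -1`, `u = 1`
        have hw1 := hw (-1) 1
        have hsort' : (D.commWord F r1 r2 (-1) 1).Pairwise (fun a b => a.1 < b.1) := by
          unfold ChevalleyDatum.commWord
          rw [List.pairwise_map]
          exact hsort
        have hlet' : ∀ p ∈ D.commWord F r1 r2 (-1) 1, D.nroots / 2 ≤ p.1 ∧ p.1 < D.nroots := by
          intro p hp
          unfold ChevalleyDatum.commWord at hp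
          rw [List.mem_map] at hp
          obtain ⟨c', hc', rfl⟩ := hp
          have := hlet c' hc'
          exact ⟨by omega, this.2.2⟩
        rw [wEl_sorted hD _ hsort' (D.nroots / 2) (by omega) hlet'] at hw1
        have h4 := S _ hw1 r hr hrn
        have hmem : (c.1, ((c.2.1 : ℤ) : F) * (-(-1 : F)) ^ c.2.2.1 * (1 : F) ^ c.2.2.2) ∈
            D.commWord F r1 r2 (-1) 1 := by
          unfold ChevalleyDatum.commWord
          exact List.mem_map.mpr ⟨c, hc, rfl⟩
        have h5 := wcoef_of_mem _ hsort' hmem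
        simp only at h5
        rw [hcr] at h5
        rw [h5] at h4
        refine ⟨hr, hrn, _, ?_, h4⟩
        rw [neg_neg, one_pow, one_pow, mul_one, mul_one]
        rcases hc1 with h | h
        · rw [h]; simp
        · rw [h]; simp
  -- the conclusion
  refine ⟨J, fun j hj => hj.1, ?_⟩
  apply le_antisymm
  · intro x hx
    have hx' : (⟨x, hXG hx⟩ : ↥(D.group F)) ∈ X' := (memX' _).mpr hx
    obtain ⟨t, ht⟩ := B.exists_seg hx'
    have hall : ∀ p ∈ segW D (D.nroots / 2) t,
        xEl hD p.1 p.2 ∈ (D.unipotentRadical F J).subgroupOf (D.group F) := by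
      intro p hp
      have h1 := segW_mem hp
      unfold segW at hp
      rw [List.mem_map] at hp
      obtain ⟨r, _, rfl⟩ := hp
      rw [Subgroup.mem_subgroupOf]
      by_cases h0 : t r = 0
      · show ((xEl hD r (t r) : ↥(D.group F)) : GL D.Idx F) ∈ _
        rw [h0, xEl_zero]
        exact (D.unipotentRadical F J).one_mem
      · have hΨ : Ψ r := ⟨h1.1, h1.2, t r, h0, S t (ht ▸ hx') r h1.1 h1.2⟩
        exact Subgroup.subset_closure ⟨r, t r, (P r h1.2).1.mpr h1.1, notJ r hΨ,
          coe_xEl hD h1.2 (t r)⟩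
    have := wEl_mem hD _ _ hall
    rw [Subgroup.mem_subgroupOf] at this
    have e : x = ((⟨x, hXG hx⟩ : ↥(D.group F)) : GL D.Idx F) := rfl
    rw [e, ht]
    exact this
  · unfold ChevalleyDatum.unipotentRadical
    rw [Subgroup.closure_le]
    rintro g ⟨r, t, hr, hrJ, hg⟩
    have hpos := (P r hr.1).1.mp hr
    have := full r (asc r hpos hr.1 hrJ) t
    rw [memX'] at this
    have e : g = ((xEl hD r t : ↥(D.group F)) : GL D.Idx F) := by
      apply Units.ext
      rw [hg, coe_xEl hD hr.1]
    rw [SetLike.mem_coe, e]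
    exact this

end

end Cfsg.Agent.Lib.Helper26.WC
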