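import Cfsg.Agent.Lib.Helper26.WC.WC4

set_option autoImplicit false

/-! Weakly closed subgroups of `U` (S2244), part 5: the separation steps from the torus
witnesses. -/

namespace Cfsg.Agent.Lib.Helper26.WC

open Cfsg Cfsg.Lie Matrix Cfsg.Agent.Lib.Helper8.Chev Cfsg.Agent.Lib.Helper26.ChevNsl

/-- in a field with more than `n + 1` elements some non-zero element is not an `n`-th root of
unity -/
theorem exists_pow_ne_one {F : Type*} [Field F] [Fintype F] {n : ℕ} (hn : 0 < n)
    (hcard : n + 1 < Fintype.card F) : ∃ c : F, c ≠ 0 ∧ c ^ n ≠ 1 := by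
  classical
  by_contra hcon
  push Not at hcon
  have hsub : (Finset.univ.erase (0 : F)) ⊆ (Polynomial.nthRoots n (1 : F)).toFinset := by
    intro c hc
    rw [Multiset.mem_toFinset, Polynomial.mem_nthRoots hn]
    exact hcon c (Finset.ne_of_mem_erase hc)
  have h1 := Finset.card_le_card hsub
  have h2 : (Polynomial.nthRoots n (1 : F)).toFinset.card ≤ n :=
    le_trans (Multiset.toFinset_card_le _) (Polynomial.card_nthRoots n 1)
  rw [Finset.card_erase_of_mem (Finset.mem_univ _), Finset.card_univ] at h1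
  omega

/-- the long pairs of `G₂` -/
def LongPair (k s : ℕ) : Prop := (k = 6 ∧ s = 10) ∨ (k = 6 ∧ s = 11) ∨ (k = 10 ∧ s = 11)

/-- the statement of the torus witnesses -/
def SepWit (D : ChevalleyDatum) : Prop :=
  ∀ k s, D.nroots / 2 ≤ k → k < s → s < D.nroots →
    ∃ p, p < D.nroots ∧ aco D p k = 0 ∧
      ((aco D p s = 1 ∨ aco D p s = -1) ∨
       (D ∈ [chevG2, chevB2, chevD4, chevF4] ∧ (aco D p s = 2 ∨ aco D p s = -2)) ∨
       (D = chevG2 ∧ (aco D p s = 3 ∨ aco D p s = -3) ∧ LongPair k s))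

section

variable {D : ChevalleyDatum} {F : Type*} [Field F] [Fintype F]
  {hD : D ∈ [chevG2, chevB2, chevD4, chevF4, chevE6, chevE7, chevE8]}
  {X : Subgroup ↥(D.group F)}

theorem exists_zpow_ne_one {n : ℕ} (hn : 0 < n) (hcard : n + 1 < Fintype.card F) {v : ℤ}
    (hv : v = n ∨ v = -(n : ℤ)) : ∃ c : F, c ≠ 0 ∧ c ^ v ≠ 1 := by
  obtain ⟨c, hc, hcn⟩ := exists_pow_ne_one hn hcard
  refine ⟨c, hc, ?_⟩
  rcases hv with rfl | rfl
  · rwa [zpow_natCast]
  · rw [_root_.zpow_neg, zpow_natCast]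
    intro h
    exact hcn (inv_eq_one.mp h)

/-- the separation steps outside the long pairs of `G₂(4)` -/
theorem stepH_of_sepWit (B : BNorm hD X) (hsep : SepWit D) (h2 : Fintype.card F ≠ 2)
    (h3 : D ∈ [chevG2, chevB2, chevD4, chevF4] → Fintype.card F ≠ 3) {k s : ℕ}
    (hk : D.nroots / 2 ≤ k) (hks : k < s) (hs : s < D.nroots)
    (hne : ¬ (D = chevG2 ∧ Fintype.card F = 4 ∧ LongPair k s)) : StepH hD X k s := by
  have hc1 : 1 < Fintype.card F := Fintype.one_lt_card
  obtain ⟨p, hp, h0, hv⟩ := hsep k s hk hks hs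
  rcases hv with hv | ⟨hD4, hv⟩ | ⟨hG2, hv, hlong⟩
  · obtain ⟨c, hc, hcv⟩ := exists_zpow_ne_one (F := F) (n := 1) (by norm_num) (by omega)
      (v := aco D p s) (by simpa using hv)
    exact stepH_of_torus B hk hks hs hp hc h0 hcv
  · have := h3 hD4
    obtain ⟨c, hc, hcv⟩ := exists_zpow_ne_one (F := F) (n := 2) (by norm_num) (by omega)
      (v := aco D p s) (by simpa using hv)
    exact stepH_of_torus B hk hks hs hp hc h0 hcv
  · have h3' := h3 (by rw [hG2]; simp)
    have h4 : Fintype.card F ≠ 4 := fun h => hne ⟨hG2, h, hlong⟩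
    obtain ⟨c, hc, hcv⟩ := exists_zpow_ne_one (F := F) (n := 3) (by norm_num) (by omega)
      (v := aco D p s) (by simpa using hv)
    exact stepH_of_torus B hk hks hs hp hc h0 hcv

end

end Cfsg.Agent.Lib.Helper26.WC
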