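import Cfsg.Agent.Lib.Helper26.WC.WC4

set_option autoImplicit false

/-! Weakly closed subgroups of `U` (S2244): the ascent witnesses.  Every positive root which is not
fundamental is a term with coefficient `±1` of the commutator formula of two smaller positive
roots whose terms come in increasing order. -/

namespace Cfsg.Agent.Lib.Helper26.WC

open Cfsg Cfsg.Lie Matrix Cfsg.Agent.Lib.Helper8.Chev

/-- the witness pairs, by the number of roots -/
def ascC (D : ChevalleyDatum) : List (ℕ × ℕ) :=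
  if D.nroots = 12 then [(0, 0), (0, 0), (0, 0), (0, 0), (0, 0), (0, 0), (0, 0), (0, 0), (6, 7), (6, 7), (6, 7), (6, 10)]
  else if D.nroots = 8 then [(0, 0), (0, 0), (0, 0), (0, 0), (0, 0), (0, 0), (4, 5), (4, 5)]
  else if D.nroots = 24 then [(0, 0), (0, 0), (0, 0), (0, 0), (0, 0), (0, 0), (0, 0), (0, 0), (0, 0), (0, 0), (0, 0), (0, 0), (0, 0), (0, 0), (0, 0), (12, 14), (13, 14), (12, 16), (0, 0), (14, 18), (12, 19), (13, 19), (12, 21), (14, 22)]
  else if D.nroots = 48 then [(0, 0), (0, 0), (0, 0), (0, 0), (0, 0), (0, 0), (0, 0), (0, 0), (0, 0), (0, 0), (0, 0), (0, 0), (0, 0), (0, 0), (0, 0), (0, 0), (0, 0), (0, 0), (0, 0), (0, 0), (0, 0), (0, 0), (0, 0), (0, 0), (0, 0), (0, 0), (24, 25), (0, 0), (25, 27), (24, 28), (25, 27), (24, 30), (24, 28), (0, 0), (27, 33), (25, 34), (24, 35), (27, 35), (24, 37), (25, 38), (27, 39), (25, 34), (24, 41), (24, 35), (27, 43), (24, 37), (25, 45), (24, 46)]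
  else if D.nroots = 72 then [(0, 0), (0, 0), (0, 0), (0, 0), (0, 0), (0, 0), (0, 0), (0, 0), (0, 0), (0, 0), (0, 0), (0, 0), (0, 0), (0, 0), (0, 0), (0, 0), (0, 0), (0, 0), (0, 0), (0, 0), (0, 0), (0, 0), (0, 0), (0, 0), (0, 0), (0, 0), (0, 0), (0, 0), (0, 0), (0, 0), (0, 0), (0, 0), (0, 0), (0, 0), (0, 0), (0, 0), (0, 0), (0, 0), (36, 37), (0, 0), (37, 39), (36, 40), (0, 0), (39, 42), (37, 43), (36, 44), (0, 0), (39, 46), (37, 47), (36, 48), (42, 47), (37, 50), (36, 51), (39, 51), (36, 53), (37, 54), (0, 0), (42, 56), (39, 57), (37, 58), (36, 59), (46, 58), (37, 61), (36, 62), (39, 62), (36, 64), (37, 65), (42, 64), (36, 67), (37, 68), (39, 69), (46, 70)]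
  else if D.nroots = 126 then [(0, 0), (0, 0), (0, 0), (0, 0), (0, 0), (0, 0), (0, 0), (0, 0), (0, 0), (0, 0), (0, 0), (0, 0), (0, 0), (0, 0), (0, 0), (0, 0), (0, 0), (0, 0), (0, 0), (0, 0), (0, 0), (0, 0), (0, 0), (0, 0), (0, 0), (0, 0), (0, 0), (0, 0), (0, 0), (0, 0), (0, 0), (0, 0), (0, 0), (0, 0), (0, 0), (0, 0), (0, 0), (0, 0), (0, 0), (0, 0), (0, 0), (0, 0), (0, 0), (0, 0), (0, 0), (0, 0), (0, 0), (0, 0), (0, 0), (0, 0), (0, 0), (0, 0), (0, 0), (0, 0), (0, 0), (0, 0), (0, 0), (0, 0), (0, 0), (0, 0), (0, 0), (0, 0), (0, 0), (0, 0), (0, 0), (63, 64), (0, 0), (64, 66), (63, 67), (0, 0), (66, 69), (64, 70), (63, 71), (0, 0), (69, 73), (66, 74), (64, 75), (63, 76), (0, 0), (69, 78), (66, 79), (64, 80), (63, 81), (73, 79), (66, 83), (64, 84), (63, 85), (69, 84), (64, 87), (63, 88), (66, 88), (63, 90), (64, 91), (0, 0), (73, 93), (69, 94), (66, 95), (64, 96), (63, 97), (78, 95), (66, 99), (64, 100), (63, 101), (69, 100), (64, 103), (63, 104), (66, 104), (63, 106), (64,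 107), (73, 103), (64, 109), (63, 110), (66, 110), (63, 112), (64, 113), (69, 112), (63, 115), (64, 116), (66, 117), (78, 115), (63, 119), (64, 120), (66, 121), (69, 122), (73, 123), (93, 124)]
  else if D.nroots = 240 then [(0, 0), (0, 0), (0, 0), (0, 0), (0, 0), (0, 0), (0, 0), (0, 0), (0, 0), (0, 0), (0, 0), (0, 0), (0, 0), (0, 0), (0, 0), (0, 0), (0, 0), (0, 0), (0, 0), (0, 0), (0, 0), (0, 0), (0, 0), (0, 0), (0, 0), (0, 0), (0, 0), (0, 0), (0, 0), (0, 0), (0, 0), (0, 0), (0, 0), (0, 0), (0, 0), (0, 0), (0, 0), (0, 0), (0, 0), (0, 0), (0, 0), (0, 0), (0, 0), (0, 0), (0, 0), (0, 0), (0, 0), (0, 0), (0, 0), (0, 0), (0, 0), (0, 0), (0, 0), (0, 0), (0, 0), (0, 0), (0, 0), (0, 0), (0, 0), (0, 0), (0, 0), (0, 0), (0, 0), (0, 0), (0, 0), (0, 0), (0, 0), (0, 0), (0, 0), (0, 0), (0, 0), (0, 0), (0, 0), (0, 0), (0, 0), (0, 0), (0, 0), (0, 0), (0, 0), (0, 0), (0, 0), (0, 0), (0, 0), (0, 0), (0, 0), (0, 0), (0, 0), (0, 0), (0, 0), (0, 0), (0, 0), (0, 0), (0, 0), (0, 0), (0, 0),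 (0, 0), (0, 0), (0, 0), (0, 0), (0, 0), (0, 0), (0, 0), (0, 0), (0, 0), (0, 0), (0, 0), (0, 0), (0, 0), (0, 0), (0, 0), (0, 0), (0, 0), (0, 0), (0, 0), (0, 0), (0, 0), (0, 0), (0, 0), (0, 0), (0, 0), (0, 0), (0, 0), (120, 121), (0, 0), (121, 123), (120, 124), (0, 0), (123, 126), (121, 127), (120, 128), (0, 0), (126, 130), (123, 131), (121, 132), (120, 133), (0, 0), (130, 135), (126, 136), (123, 137), (121, 138), (120, 139), (0, 0), (130, 141), (126, 142), (123, 143), (121, 144), (120, 145), (135, 142), (126, 147), (123, 148), (121, 149), (120, 150), (130, 148), (123, 152), (121, 153), (120, 154), (126, 153), (121, 156), (120, 157), (123, 157), (120, 159), (121, 160), (0, 0), (135, 162), (130, 163), (126, 164), (123, 165), (121, 166), (120, 167), (141, 164), (126, 169), (123, 170), (121, 171), (120, 172), (130, 170), (123, 174), (121, 175), (120, 176), (126, 175), (121, 178), (120, 179), (123, 179), (120, 181), (121, 182), (135, 174), (123, 184), (121, 185), (120, 186),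 (126, 185), (121, 188), (120, 189), (123, 189), (120, 191), (121, 192), (130, 188), (121, 194), (120, 195), (123, 195), (120, 197), (121, 198), (126, 197), (120, 200), (121, 201), (123, 202), (141, 194), (121, 204), (120, 205), (123, 205), (120, 207), (121, 208), (126, 207), (120, 210), (121, 211), (123, 212), (130, 210), (120, 214), (121, 215), (123, 216), (126, 217), (135, 214), (120, 219), (121, 220), (123, 221), (126, 222), (130, 223), (141, 224), (162, 219), (120, 226), (121, 227), (123, 228), (126, 229), (130, 230), (135, 231), (141, 231), (135, 233), (130, 234), (126, 235), (123, 236), (121, 237), (120, 238)]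
  else []

/-- the root `r` is fundamental -/
noncomputable def isSimpleB (D : ChevalleyDatum) (r : ℕ) : Bool :=
  existsLtF (fun i => Nat.beq r (D.simple i)) D.rank

noncomputable def ascOK (D : ChevalleyDatum) (r r1 r2 : ℕ) : Bool :=
  Nat.ble (D.nroots / 2) r1 && Nat.blt r1 r && Nat.ble (D.nroots / 2) r2 && Nat.blt r2 r &&
  !(Nat.beq r1 r2) &&
  strictIncrF ((D.commTerms r1 r2).map Prod.fst) (some (max r1 r2)) &&
  allF (fun c : ℕ × ℤ × ℕ × ℕ => Nat.blt c.1 D.nroots) (D.commTerms r1 r2) &&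
  !(allF (fun c : ℕ × ℤ × ℕ × ℕ => !(Nat.beq c.1 r && (decide (c.2.1 = 1) || decide (c.2.1 = -1))))
    (D.commTerms r1 r2))

noncomputable def checkAsc (D : ChevalleyDatum) (cert : List (ℕ × ℕ)) : Bool :=
  forallLtF (fun r => Nat.blt r (D.nroots / 2) || isSimpleB D r ||
    ascOK D r (nthF ((0, 0) : ℕ × ℕ) cert r).1 (nthF ((0, 0) : ℕ × ℕ) cert r).2) D.nroots

set_option maxRecDepth 100000 in
theorem checkAsc_G2 : checkAsc chevG2 (ascC chevG2) = true := by decide +kernel
set_option maxRecDepth 100000 in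
theorem checkAsc_B2 : checkAsc chevB2 (ascC chevB2) = true := by decide +kernel
set_option maxRecDepth 100000 in
theorem checkAsc_D4 : checkAsc chevD4 (ascC chevD4) = true := by decide +kernel
set_option maxRecDepth 100000 in
theorem checkAsc_F4 : checkAsc chevF4 (ascC chevF4) = true := by decide +kernel
set_option maxRecDepth 100000 in
theorem checkAsc_E6 : checkAsc chevE6 (ascC chevE6) = true := by decide +kernel
set_option maxRecDepth 100000 in
theorem checkAsc_E7 : checkAsc chevE7 (ascC chevE7) = true := by decide +kernel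
set_option maxRecDepth 100000 in
theorem checkAsc_E8 : checkAsc chevE8 (ascC chevE8) = true := by decide +kernel

theorem ascWit_of_check {D : ChevalleyDatum} {cert : List (ℕ × ℕ)}
    (h : checkAsc D cert = true) : AscWit D := by
  intro r hr hrn hns
  simp only [checkAsc, forallLtF_eq_true, Bool.or_eq_true, Nat.blt_eq] at h
  rcases h r hrn with (h1 | h1) | h1
  · omega
  · exfalso
    simp only [isSimpleB, existsLtF_eq_true, Nat.beq_eq] at h1
    obtain ⟨i, hi, e⟩ := h1
    exact hns i hi e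
  · set r1 := (nthF ((0, 0) : ℕ × ℕ) cert r).1
    set r2 := (nthF ((0, 0) : ℕ × ℕ) cert r).2
    simp only [ascOK, Bool.and_eq_true, Nat.ble_eq, Nat.blt_eq, Bool.not_eq_true',
      nat_beq_eq_false, allF_eq_true] at h1
    obtain ⟨⟨⟨⟨⟨⟨⟨ha, hb⟩, hc⟩, hd⟩, he⟩, hf⟩, hg⟩, hh⟩ := h1
    have hpw := strictIncrF_some_pairwise hf
    rw [List.pairwise_cons] at hpw
    refine ⟨r1, r2, ha, hb, hc, hd, he, ?_, ?_, ?_⟩
    · have := hpw.2
      rwa [List.pairwise_map] at this
    · intro c hc'
      have h1 := hpw.1 c.1 (List.mem_map.mpr ⟨c, hc', rfl⟩)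
      have h2 := hg c hc'
      exact ⟨lt_of_le_of_lt (le_max_left _ _) h1, lt_of_le_of_lt (le_max_right _ _) h1, h2⟩
    · by_contra hcon
      push Not at hcon
      have : allF (fun c : ℕ × ℤ × ℕ × ℕ =>
          !(Nat.beq c.1 r && (decide (c.2.1 = 1) || decide (c.2.1 = -1))))
          (D.commTerms r1 r2) = true := by
        rw [allF_eq_true]
        intro c hc'
        have := hcon c hc'
        rw [Bool.not_eq_true', Bool.and_eq_false_iff]
        by_cases e : c.1 = r
        · right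
          have h3 := this e
          simp [h3.1, h3.2]
        · left
          rw [← Bool.not_eq_true, Nat.beq_eq]
          exact e
      rw [this] at hh
      exact absurd hh (by simp)

/-- the ascent witnesses for the seven types -/
theorem ascWit_of_mem {D : ChevalleyDatum}
    (hD : D ∈ [chevG2, chevB2, chevD4, chevF4, chevE6, chevE7, chevE8]) : AscWit D := by
  simp only [List.mem_cons, List.not_mem_nil, or_false] at hD
  rcases hD with rfl | rfl | rfl | rfl | rfl | rfl | rfl
  · exact ascWit_of_check checkAsc_G2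
  · exact ascWit_of_check checkAsc_B2
  · exact ascWit_of_check checkAsc_D4
  · exact ascWit_of_check checkAsc_F4
  · exact ascWit_of_check checkAsc_E6
  · exact ascWit_of_check checkAsc_E7
  · exact ascWit_of_check checkAsc_E8

end Cfsg.Agent.Lib.Helper26.WC
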