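import Cfsg.Agent.Lib.Helper26.WC.WC5
import Cfsg.Agent.Lib.Helper26.WC.WC6
import Cfsg.Agent.Lib.Helper27.S2244FO1
import Cfsg.Agent.H5.S2244FO3

set_option autoImplicit false

/-! Weakly closed subgroups of `U` (S2244), part 7: the theorem. -/

namespace Cfsg.Agent.Lib.Helper26.WC

open Cfsg Cfsg.Lie Matrix Cfsg.Agent.Lib.Helper8.Chev Cfsg.Agent.Lib.Helper26.ChevNsl

theorem memG2 : chevG2 ∈ [chevG2, chevB2, chevD4, chevF4, chevE6, chevE7, chevE8] := by simp

theorem g2_step_long' {F : Type*} [Field F] [Finite F] (h2 : (2 : F) = 0)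
    (X : Subgroup ↥(chevG2.group F)) (B : BNorm memG2 X) {k s : ℕ}
    (hks : (k = 6 ∧ s = 10) ∨ (k = 6 ∧ s = 11) ∨ (k = 10 ∧ s = 11)) :
    StepH memG2 X k s :=
  Cfsg.H5.S2244FO3.g2_step_long h2 X B hks

theorem sepWit_of_mem {D : ChevalleyDatum}
    (hD : D ∈ [chevG2, chevB2, chevD4, chevF4, chevE6, chevE7, chevE8]) : SepWit D := by
  intro k s hk hks hs
  exact Cfsg.Agent.Lib.Helper27.S2244FO1.sep_witness hD hk hks hs

theorem weakly_closed_main {F : Type*} [Field F] [Fintype F] (D : ChevalleyDatum)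
    (hD : D ∈ [chevG2, chevB2, chevD4, chevF4, chevE6, chevE7, chevE8])
    (h2 : Fintype.card F ≠ 2)
    (h3 : D ∈ [chevG2, chevB2, chevD4, chevF4] → Fintype.card F ≠ 3)
    (X : Subgroup (GL D.Idx F)) (hXU : X ≤ D.posUnipotent F)
    (hwc : ∀ g ∈ D.group F, X.map (MulAut.conj g).toMonoidHom ≤ D.posUnipotent F →
      X.map (MulAut.conj g).toMonoidHom = X) :
    ∃ J : Set ℕ, (∀ j ∈ J, j < D.rank) ∧ X = D.unipotentRadical F J := by
  have B := bnorm_of_wc hD hXU hwc
  apply main_of_steps hD X hXU hwc ?_ (ascWit_of_mem hD)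
  intro k s hk hks hs
  by_cases hne : D = chevG2 ∧ Fintype.card F = 4 ∧ LongPair k s
  · obtain ⟨rfl, h4, hl⟩ := hne
    have h2F : (2 : F) = 0 := by
      have h := Nat.cast_card_eq_zero F
      rw [h4] at h
      have : (2 : F) * 2 = 0 := by
        rw [← h]; norm_num
      exact mul_self_eq_zero.mp this
    exact g2_step_long' h2F _ B hl
  · exact stepH_of_sepWit B (sepWit_of_mem hD) h2 h3 hk hks hs hne

end Cfsg.Agent.Lib.Helper26.WC
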